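import Groth.Agent.CurvSt.K760.Iface
import Groth.Agent.S0240
import Groth.Agent.Pi1A.FEtGlue

/-!
# Lifting finite étale covers with an involution from the closed fibre (henselian base)

Node HURW-INVOL of the plan of helper760 for S16736.
-/

set_option autoImplicit false

universe u

open CategoryTheory CategoryTheory.Limits AlgebraicGeometry IsLocalRing

namespace K445.Hurw

open Groth.Agent.Pi1A.FEtGlue

/-- Covers of a scheme isomorphic to the source of an essentially surjective restriction are restrictions. -/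
theorem exists_cover {P₁ P P₀ W₀ : Scheme.{u}} (f : P₁ ⟶ P) [(FEt.restrict f).EssSurj] (e : P₀ ≅ P₁) {j : P₀ ⟶ P}
    (he : e.hom ≫ f = j) (p₀ : W₀ ⟶ P₀) [IsFinite p₀] [Etale p₀] :
    ∃ (W : FEt.Cat P) (ε : pullback W.hom f ≅ W₀), IsPullback (ε.inv ≫ pullback.fst W.hom f) p₀ W.hom j := by
  let W₁ : FEt.Cat P₁ := MorphismProperty.Over.mk ⊤ (p₀ ≫ e.hom) ⟨inferInstance, inferInstance⟩
  obtain ⟨W, ⟨η⟩⟩ : ∃ W, Nonempty ((FEt.restrict f).obj W ≅ W₁) :=
    Functor.EssSurj.mem_essImage (F := FEt.restrict f) W₁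
  let ε : pullback W.hom f ≅ W₀ :=
    { hom := η.hom.left
      inv := η.inv.left
      hom_inv_id := congrArg (fun g => g.left) η.hom_inv_id
      inv_hom_id := congrArg (fun g => g.left) η.inv_hom_id }
  have hε : ε.hom ≫ p₀ ≫ e.hom = pullback.snd W.hom f := MorphismProperty.Over.w η.hom
  refine ⟨W, ε, IsPullback.of_iso (IsPullback.of_hasPullback W.hom f) ε (Iso.refl _) e.symm (Iso.refl _) ?_ ?_ ?_ ?_⟩
  · rw [Iso.refl_hom, Category.comp_id, Iso.hom_inv_id_assoc]
  · rw [Iso.symm_hom, ← hε, Category.assoc, Category.assoc, e.hom_inv_id, Category.comp_id]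
  · rw [Iso.refl_hom, Iso.refl_hom, Category.comp_id, Category.id_comp]
  · rw [Iso.refl_hom, Iso.symm_hom, Category.comp_id, ← he, Iso.inv_hom_id_assoc]

theorem main : K760.Hurw.InvolLiftStmt.{u} := by
  intro A _ _ P q _ σ hσ hσq P₀ j q₀ hj σ₀ hσ₀ hσ₀j hσ₀q W₀ p₀ _ _ s₀ hs₀ hs₀p
  let f := pullback.fst q (Spec.map (CommRingCat.ofHom (residue A)))
  have heq : (FEt.restrict f).IsEquivalence := Groth.Agent.S0240.result A q
  have he : hj.isoPullback.hom ≫ f = j := hj.isoPullback_hom_fst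
  obtain ⟨W, ε, hW⟩ := exists_cover f hj.isoPullback he p₀
  obtain ⟨i, hi⟩ : ∃ i, i = ε.inv ≫ pullback.fst W.hom f := ⟨_, rfl⟩
  rw [← hi] at hW
  have hi' : pullback.fst W.hom f = ε.hom ≫ i := by rw [hi, Iso.hom_inv_id_assoc]
  obtain ⟨s, hs1, hs2⟩ := hom_exists f W σ W (ε.hom ≫ s₀ ≫ i) (by
    rw [hi']
    simp only [Category.assoc]
    erw [hW.w, ← Category.assoc i, hW.w]
    rw [← Category.assoc s₀, hs₀p, Category.assoc, hσ₀j, Category.assoc])
  have hs3 : s₀ ≫ i = i ≫ s := by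
    rw [hi', Category.assoc] at hs2
    exact ((cancel_epi ε.hom).1 hs2).symm
  refine ⟨W.left, W.hom, s, i, W.prop.1, W.prop.2, ?_, hs1, hW, hs3⟩
  refine hom_unique f W (𝟙 P) W (s ≫ s) (𝟙 _) ?_ ?_ ?_
  · rw [Category.assoc]
    erw [hs1, ← Category.assoc s, hs1]
    rw [Category.assoc, hσ]
  · rw [Category.id_comp]
    exact (Category.comp_id _).symm
  · have h1 : i ≫ s ≫ s = i := by
      rw [← Category.assoc i, ← hs3, Category.assoc, ← hs3, ← Category.assoc s₀, hs₀, Category.id_comp]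
    rw [hi']
    refine Eq.trans ?_ (Category.comp_id _).symm
    refine (Category.assoc _ _ _).trans ?_
    exact congrArg (fun z => ε.hom ≫ z) h1

end K445.Hurw
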